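import Cfsg.Agent.H274.RIM.Co1E
import Cfsg.Agent.H309.CoD.Cube

/-!
# S4816, row `Co1`: `NBall p` for `p = 3, 11, 23` (helper764)

The characters of `Co0` of degrees 24 and 2024; for `p = 5, 7, 13` see `RowCo1b`.
-/

set_option autoImplicit false

namespace Cfsg.Agent.H764.RIM

open Cfsg Cfsg.Agent.H665.RIM
open Cfsg.Agent.SporadicA.Co0Mono Cfsg.Agent.SporadicA.Co1Simple
open Cfsg.Agent.H419.Spor.Co1 (chi chi_one chi_neg)

universe u

theorem nball_three {K : Type u} [Group K] [Finite K] (h : Spor.IsoCo1 K) : NBall.{u} 3 K := by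
  refine Cfsg.Agent.H274.RIM.nball_of_co0 (χ := chi) Cfsg.Agent.H843.IMC.Co1B.irr_chi (by rw [chi_neg, chi_one]) ?_ h
  show 3 ∣ ⌊(chi 1).re⌋₊
  rw [chi_one]
  norm_num

theorem nball_eleven {K : Type u} [Group K] [Finite K] (h : Spor.IsoCo1 K) : NBall.{u} 11 K := by
  obtain ⟨χ, h1, h2, h3⟩ := Cfsg.Agent.H309.CoD.exists_2024
  exact Cfsg.Agent.H274.RIM.nball_of_co0 h1 h2 (by rw [h3]; norm_num) h

theorem nball_twentythree {K : Type u} [Group K] [Finite K] (h : Spor.IsoCo1 K) : NBall.{u} 23 K := by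
  obtain ⟨χ, h1, h2, h3⟩ := Cfsg.Agent.H309.CoD.exists_2024
  exact Cfsg.Agent.H274.RIM.nball_of_co0 h1 h2 (by rw [h3]; norm_num) h

end Cfsg.Agent.H764.RIM
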