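import Cfsg.Agent.H764.RIM.Deg
import Cfsg.Agent.H764.RIM.RowCo1
import Cfsg.Agent.H803.Rim.Signed

/-!
# S4816, row `Co1`: `NBall p` for `p = 5, 7, 13` (helper764)

The characters of `Co0` of degrees 2576 and 95680: odd functions on the minimal vectors.
-/

set_option autoImplicit false

namespace Cfsg.Agent.H764.RIM

open Cfsg Cfsg.Agent.H665.RIM
open Cfsg.Agent.SporadicA.Co0Mono Cfsg.Agent.SporadicA.Co1Simple
open Cfsg.Agent.H843.IMC.Co1C Cfsg.Agent.H764.RIM.Data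

universe u

theorem of_co0 : Cfsg.Agent.H803.Rim.OF Co0 M z ip ![32, 16, 8] ![1, 4600, 47104] where
  trans := inferInstance
  cen := (Cfsg.Agent.CoOneType.CoOneE.mem_center_iff _).2 (Or.inr rfl)
  sq := signCo0_mul_self allOne
  inv := ip_smul
  sym := ip_comm
  neg x y := by rw [z_smul, ip_ng]
  tr := tr
  zer := zer
  val := val
  pos i := by fin_cases i <;> decide
  inj := by decide
  cnt := cnt
  kpos i := by fin_cases i <;> decide

/-- **Irreducible characters of `Co0` of degrees 2576 and 95680**, faithful on the centre. -/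
theorem exists_chars :
    (∃ ψ : Co0 → ℂ, IsIrrCharacter Co0 ψ ∧ ψ (signCo0 allOne) = -ψ 1 ∧ charDegree ψ = 2576) ∧
      ∃ ψ : Co0 → ℂ, IsIrrCharacter Co0 ψ ∧ ψ (signCo0 allOne) = -ψ 1 ∧ charDegree ψ = 95680 := by
  have := Fintype.ofFinite Co0
  have := Fintype.ofFinite M
  have : Nonempty M := ⟨x0⟩
  obtain ⟨χ, D, -, h2, h3, h4, h5, h6⟩ := Cfsg.Agent.H803.Rim.frame of_co0
  exact Cfsg.Agent.H764.RIM.Deg.degrees χ D h2 h3 h4 h5 h6

theorem nball_five {K : Type u} [Group K] [Finite K] (h : Spor.IsoCo1 K) : NBall.{u} 5 K := by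
  obtain ⟨-, χ, h1, h2, h3⟩ := exists_chars
  exact Cfsg.Agent.H274.RIM.nball_of_co0 h1 h2 (by rw [h3]; norm_num) h

theorem nball_seven {K : Type u} [Group K] [Finite K] (h : Spor.IsoCo1 K) : NBall.{u} 7 K := by
  obtain ⟨⟨χ, h1, h2, h3⟩, -⟩ := exists_chars
  exact Cfsg.Agent.H274.RIM.nball_of_co0 h1 h2 (by rw [h3]; norm_num) h

theorem nball_thirteen {K : Type u} [Group K] [Finite K] (h : Spor.IsoCo1 K) : NBall.{u} 13 K := by
  obtain ⟨-, χ, h1, h2, h3⟩ := exists_chars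
  exact Cfsg.Agent.H274.RIM.nball_of_co0 h1 h2 (by rw [h3]; norm_num) h

end Cfsg.Agent.H764.RIM
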