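import Cfsg.Agent.H843.IMC.Co1C
import Cfsg.Agent.SporadicStructure.OrthPairs

/-!
# `Co0` on the 196560 minimal vectors: the inner product (helper764)

Signed rank 3 data (S4816, row `Co1`).
-/

set_option autoImplicit false

namespace Cfsg.Agent.H764.RIM.Data

open Cfsg MulAction Cfsg.Agent.SporadicStructure.Co2RankThree
open Cfsg.Agent.SporadicA.Co0Mono Cfsg.Agent.SporadicA.Co1Simple
open Cfsg.Agent.H843.IMC.Co1C

/-- the central involution -/
noncomputable def z : Co0 := signCo0 allOne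

theorem z_smul (x : M) : z • x = ng x := neg_smul_M x

/-- the inner product -/
def ip (x y : M) : ℤ := dt x.1 y.1

theorem ip_smul (g : Co0) (x y : M) : ip (g • x) (g • y) = ip x y := dt_smul g x.1 y.1

theorem ip_comm (x y : M) : ip x y = ip y x := dt_comm x.1 y.1

theorem ip_ng (x y : M) : ip (ng x) y = -ip x y := dt_neg_left x.1 y.1

theorem ip_ng' (x y : M) : ip x (ng y) = -ip x y := dt_neg_right x.1 y.1

theorem ip_self (x : M) : ip x x = 32 := x.2

theorem pos_or (w : leechLattice) : w = 0 ∨ 32 ≤ dt w w := by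
  by_cases h : (w : GolayPt → ℤ) = 0
  · exact Or.inl (Subtype.ext h)
  · right
    rw [← norm_eq]
    exact Cfsg.Agent.Leech.Basic.le_sqNorm w.2 h

theorem eight_dvd (x y : M) : (8 : ℤ) ∣ ip x y := Cfsg.Agent.Leech.Basic.eight_dvd_dotInt x.1.2 y.1.2

/-- values below 32 -/
theorem ip_le (x y : M) : y = x ∨ ip x y ≤ 16 := by
  have h1 : dt (x.1 - y.1) (x.1 - y.1) = 64 - 2 * ip x y := by
    rw [dt_sub_left, dt_sub_right, dt_sub_right, x.2, y.2, dt_comm y.1 x.1]
    show 32 - ip x y - (ip x y - 32) = _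
    ring
  rcases pos_or (x.1 - y.1) with h | h
  · left
    exact (Subtype.ext (sub_eq_zero.1 h)).symm
  · right
    omega

theorem val (x y : M) (h0 : ip x y ≠ 0) : ∃ i : Fin 3, ip x y = ![32, 16, 8] i ∨ ip x y = -![32, 16, 8] i := by
  have h1 := ip_le x y
  have h2 := ip_le x (ng y)
  rw [ip_ng'] at h2
  obtain ⟨k, hk⟩ := eight_dvd x y
  have h3 : ip x y = 32 ∨ ip x y ≤ 16 := h1.imp (fun h => by rw [h]; exact ip_self x) id
  have h4 : ip x y = -32 ∨ -16 ≤ ip x y := by
    rcases h2 with h2 | h2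
    · left
      have h5 : ip x (ng y) = 32 := by rw [h2]; exact ip_self x
      rw [ip_ng'] at h5
      omega
    · right
      omega
  have h5 : ip x y = 32 ∨ ip x y = -32 ∨ ip x y = 16 ∨ ip x y = -16 ∨ ip x y = 8 ∨ ip x y = -8 := by omega
  rcases h5 with h | h | h | h | h | h
  · exact ⟨0, Or.inl h⟩
  · exact ⟨0, Or.inr h⟩
  · exact ⟨1, Or.inl h⟩
  · exact ⟨1, Or.inr h⟩
  · exact ⟨2, Or.inl h⟩
  · exact ⟨2, Or.inr h⟩

/-- pairs with inner product `-16` -/
theorem stab16 (x y y' : M) (h : ip x y = -16) (h' : ip x y' = -16) : ∃ g : Co0, g • x = x ∧ g • y = y' := by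
  obtain ⟨g, h1, h2⟩ := Cfsg.Agent.S1574.result x.1 y.1 y'.1 (by rw [norm_eq]; exact x.2) (by rw [norm_eq]; exact y.2)
    (by rw [norm_eq]; exact y'.2) h h'
  exact ⟨g, Subtype.ext h1, Subtype.ext h2⟩

theorem stab8 (x y y' : M) (h : ip x y = -8) (h' : ip x y' = -8) : ∃ g : Co0, g • x = x ∧ g • y = y' := by
  obtain ⟨g, h1, h2⟩ := Cfsg.Agent.S1575.result x.1 y.1 y'.1 (by rw [norm_eq]; exact x.2) (by rw [norm_eq]; exact y.2)
    (by rw [norm_eq]; exact y'.2) h h'
  exact ⟨g, Subtype.ext h1, Subtype.ext h2⟩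

theorem ng_inj {x y : M} (h : ng x = ng y) : x = y := by
  rw [← ng_ng x, h, ng_ng]

/-- one value of the inner product is one orbit of the stabilizer -/
theorem stab (x y y' : M) (h0 : ip x y ≠ 0) (h : ip x y = ip x y') : ∃ g : Co0, g • x = x ∧ g • y = y' := by
  obtain ⟨i, hi⟩ := val x y h0
  fin_cases i
  · rcases hi with hi | hi
    · have hi' : ip x y = 32 := hi
      have h1 : y = x := (ip_le x y).resolve_right (by omega)
      have h2 : y' = x := (ip_le x y').resolve_right (by omega)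
      exact ⟨1, one_smul _ _, by rw [one_smul, h1, h2]⟩
    · have hi' : ip x y = -32 := hi
      have h1 : ng y = x := (ip_le x (ng y)).resolve_right (by rw [ip_ng']; omega)
      have h2 : ng y' = x := (ip_le x (ng y')).resolve_right (by rw [ip_ng']; omega)
      exact ⟨1, one_smul _ _, by rw [one_smul]; exact ng_inj (h1.trans h2.symm)⟩
  · rcases hi with hi | hi
    · have hi' : ip x y = 16 := hi
      obtain ⟨g, h1, h2⟩ := stab16 x (ng y) (ng y') (by rw [ip_ng']; omega) (by rw [ip_ng']; omega)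
      refine ⟨g, h1, ng_inj ?_⟩
      rw [← smul_ng, h2]
    · have hi' : ip x y = -16 := hi
      exact stab16 x y y' hi' (by omega)
  · rcases hi with hi | hi
    · have hi' : ip x y = 8 := hi
      obtain ⟨g, h1, h2⟩ := stab8 x (ng y) (ng y') (by rw [ip_ng']; omega) (by rw [ip_ng']; omega)
      refine ⟨g, h1, ng_inj ?_⟩
      rw [← smul_ng, h2]
    · have hi' : ip x y = -8 := hi
      exact stab8 x y y' hi' (by omega)

theorem tr (x y x' y' : M) (h0 : ip x y ≠ 0) (h : ip x y = ip x' y') : ∃ g : Co0, g • x = x' ∧ g • y = y' := by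
  obtain ⟨g, hg⟩ := trans_M x x'
  have h1 : ip x' (g • y) = ip x y := by rw [← hg, ip_smul]
  obtain ⟨k, h2, h3⟩ := stab x' (g • y) y' (by rw [h1]; exact h0) (by rw [h1, h])
  exact ⟨k * g, by rw [mul_smul, hg, h2], by rw [mul_smul, h3]⟩

theorem zer (x y : M) (h : ip x y = 0) : ∃ g : Co0, g • x = x ∧ g • y = z • y := by
  obtain ⟨g, h1, h2⟩ := Cfsg.Agent.SporadicStructure.OrthPairs.co0_orth_pair_trans x.1 y.1 x.1 (ng y).1
    (by rw [norm_eq]; exact x.2) (by rw [norm_eq]; exact y.2) (by rw [norm_eq]; exact x.2)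
    (by rw [norm_eq]; exact (ng y).2) h (by
      have h3 := ip_ng' x y
      rw [h, neg_zero] at h3
      exact h3)
  refine ⟨g, Subtype.ext h1, ?_⟩
  rw [z_smul]
  exact Subtype.ext h2

theorem card_neg (x : M) (k : ℤ) : Nat.card {y : M // ip x y = k} = Nat.card {y : M // ip x y = -k} := by
  refine Nat.card_congr ⟨fun y => ⟨ng y.1, by rw [ip_ng', y.2]⟩, fun y => ⟨ng y.1, by rw [ip_ng', y.2, neg_neg]⟩,
    fun y => Subtype.ext (ng_ng _), fun y => Subtype.ext (ng_ng _)⟩

theorem card_ip {x : M} {k : ℤ} {n : ℕ}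
    (h : {w : GolayPt → ℤ | w ∈ leechLattice ∧ sqNorm w = 32 ∧ dotInt (x.1 : GolayPt → ℤ) w = k}.ncard = n) :
    Nat.card {y : M // ip x y = k} = n := by
  have h1 : ({y : leechLattice | dt y y = 32 ∧ dt x.1 y = k}).ncard = n := by
    rw [← h, ← ncard_coe (fun w => sqNorm w = 32 ∧ dotInt (x.1 : GolayPt → ℤ) w = k)]
    simp only [norm_eq]
    rfl
  rw [← h1]
  show ({y : M | ip x y = k}).ncard = _
  rw [← Set.ncard_image_of_injective ({y : M | ip x y = k}) Subtype.val_injective]
  congr 1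
  ext y
  constructor
  · rintro ⟨v, hv, rfl⟩
    exact ⟨v.2, hv⟩
  · rintro ⟨h1, h2⟩
    exact ⟨⟨y, h1⟩, h2, rfl⟩

theorem cnt (x : M) (i : Fin 3) : Nat.card {y : M // ip x y = ![32, 16, 8] i} = ![1, 4600, 47104] i := by
  have h := Cfsg.Agent.S1573.result (x.1 : GolayPt → ℤ) x.1.2 (by rw [norm_eq]; exact x.2)
  fin_cases i
  · show Nat.card {y : M // ip x y = 32} = 1
    have h1 : {y : M | ip x y = 32} = {x} := by
      ext y
      constructor
      · intro hy
        have hy' : ip x y = 32 := hy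
        exact (ip_le x y).resolve_right (by omega)
      · rintro rfl
        exact ip_self _
    show ({y : M | ip x y = 32}).ncard = 1
    rw [h1, Set.ncard_singleton]
  · show Nat.card {y : M // ip x y = 16} = 4600
    rw [card_neg]
    exact card_ip h.1
  · show Nat.card {y : M // ip x y = 8} = 47104
    rw [card_neg]
    exact card_ip h.2.1

end Cfsg.Agent.H764.RIM.Data
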