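import Cfsg.Agent.H764.RIM.Data
import Cfsg.Agent.H843.IMC.Co1D

/-!
# Degrees of the odd constituents of the permutation character on the minimal vectors (helper764)

Signed rank 3 (S4816, row `Co1`).
-/

set_option autoImplicit false

namespace Cfsg.Agent.H764.RIM.Deg

open Cfsg Cfsg.Agent.H33 Cfsg.Agent.H672.SporIM Cfsg.Agent.Characters.Core MulAction
open Cfsg.Agent.H419.LeechIrr Cfsg.Agent.SporadicStructure.Co2RankThree
open Cfsg.Agent.SporadicA.Co0Mono Cfsg.Agent.SporadicA.Co1Simple
open Cfsg.Agent.H419.Spor.Co1 (chi chi_one chi_neg)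
open Cfsg.Agent.H843.IMC.Co1B Cfsg.Agent.H843.IMC.Co1C Cfsg.Agent.H843.IMC.Co1D
open Cfsg.Agent.H593.IMFrame (perm)
open Cfsg.Agent.H713.Spor.RankThree (sum_fixedBy)
open Cfsg.Agent.H764.RIM.Data (z)
open scoped ComplexConjugate

theorem inner_chi_ne [Fintype Co0] : classInner (perm Co0 M) chi ≠ 0 := by
  classical
  have := Fintype.ofFinite M
  have hne : Nonempty M := ⟨x0⟩
  have key : ∀ x : M, ∃ n : ℕ, 0 < n ∧ ∑ᶠ g : stabilizer Co0 x, chi (g : Co0) = n := by
    intro x
    have hv : toC x.1 ≠ 0 := by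
      intro h0
      have h1 : x.1 = 0 := by
        apply toC_injective
        rw [h0]
        funext i
        simp [toC]
      have h2 := x.2
      rw [h1] at h2
      have h3 : dt (0 : leechLattice) 0 = 0 := by
        have := dt_add_left (0 : leechLattice) 0 0
        rw [add_zero] at this
        omega
      omega
    have h := classInner_lchi ((stabilizer Co0 x).subtype)
    refine ⟨Nat.card (stabilizer Co0 x) * Module.finrank ℂ (inv ((stabilizer Co0 x).subtype)), ?_, ?_⟩
    · refine Nat.mul_pos Nat.card_pos (Nat.pos_of_ne_zero fun h4 => ?_)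
      have h5 : toC x.1 ∈ inv ((stabilizer Co0 x).subtype) := toC_mem_inv.2 fun h => congrArg Subtype.val h.2
      rw [Submodule.finrank_eq_zero.1 h4] at h5
      exact hv ((Submodule.mem_bot ℂ).1 h5)
    · rw [classInner_def, inv_mul_eq_iff_eq_mul₀ card_ne_zero_complex] at h
      rw [finsum_eq_sum_of_fintype]
      push_cast
      rw [← h]
      refine Finset.sum_congr rfl fun g _ => ?_
      show chi g = chi g * conj ((1 : stabilizer Co0 x → ℂ) g)
      rw [Pi.one_apply, map_one, mul_one]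
  choose n hn1 hn2 using key
  rw [classInner_def]
  refine mul_ne_zero (inv_ne_zero card_ne_zero_complex) ?_
  have h1 : ∑ g : Co0, perm Co0 M g * conj (chi g) = ((∑ x : M, n x : ℕ) : ℂ) := by
    have h2 := sum_fixedBy (G := Co0) M chi
    push_cast
    rw [← Finset.sum_congr rfl fun x _ => hn2 x, ← h2]
    refine Finset.sum_congr rfl fun g _ => ?_
    rw [chi_real, mul_comm]
    rfl
  rw [h1]
  have h3 : 0 < ∑ x : M, n x := Finset.sum_pos (fun x _ => hn1 x) ⟨x0, Finset.mem_univ _⟩
  exact_mod_cast h3.ne'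

/-! ### arithmetic -/

/-- The check for the degrees. -/
def chk (a : ℕ) : Bool :=
  Nat.blt 98256 a || (!Nat.beq (8315553613086720000 % (98256 - a)) 0 ||
    (Nat.beq a (98256 - a) || (Nat.beq a 24 || (Nat.beq (98256 - a) 24 ||
      (!Nat.beq (8570374934033203200000 % (a * (98256 - a))) 0 ||
        (notSq (8570374934033203200000 / (a * (98256 - a)))
          (root (8570374934033203200000 / (a * (98256 - a))) 64 0 100000000000000000) ||
        (Nat.beq a 2576 || Nat.beq a 95680)))))))

/-- The factorization of the order. -/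
def fac : List (ℕ × ℕ) := [(2, 22), (3, 9), (5, 4), (7, 2), (11, 1), (13, 1), (23, 1)]

theorem chk_all : (divList fac).all chk = true := by decide +kernel

theorem mem_fac {d : ℕ} (h : d ∣ 8315553613086720000) : d ∈ divList fac := by
  refine mem_divList ?_ (by
    have : (fac.map fun x => x.1 ^ x.2).prod = 8315553613086720000 := by norm_num [fac]
    rwa [this])
  intro x hx
  fin_cases hx <;> norm_num

theorem split3 : ∀ i : Fin 3, ∃ c d : Fin 3, c ≠ d ∧ c ≠ i ∧ d ≠ i ∧
    (Finset.univ : Finset (Fin 3)) = {i, c, d} := by decide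

theorem not49128 : ¬ 49128 ∣ 8315553613086720000 := by norm_num

theorem not98232 : ¬ 98232 ∣ 8315553613086720000 := by norm_num

theorem dioph (f : Fin 3 → ℕ) (D : ℕ) (hdiv : ∀ i, f i ∣ 8315553613086720000) {i : Fin 3} (hi : f i = 24)
    (hsum : 2 * ∑ i, f i = 196560) (hprod : 8 * ((∏ i, f i) * D) = 1645511987334375014400000)
    (hsq : Function.Injective f → IsSquare D) : (∃ i, f i = 2576) ∧ ∃ i, f i = 95680 := by
  obtain ⟨c, d, hcd, hci, hdi, huniv⟩ := split3 i
  have hs : f i + (f c + f d) = 98280 := by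
    have h1 : ∑ i, f i = 98280 := by omega
    rw [← h1, huniv, Finset.sum_insert (by simp [hci.symm, hdi.symm]), Finset.sum_insert (by simp [hcd]),
      Finset.sum_singleton]
  have hp : f i * (f c * f d) * D = 205688998416796876800000 := by
    have h1 : (∏ i, f i) * D = 205688998416796876800000 := by omega
    rw [← h1, huniv, Finset.prod_insert (by simp [hci.symm, hdi.symm]), Finset.prod_insert (by simp [hcd]),
      Finset.prod_singleton]
  rw [hi] at hs hp
  have hs' : f c + f d = 98256 := by omega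
  have hp' : f c * f d * D = 8570374934033203200000 := by
    have h1 : 24 * (f c * f d * D) = 205688998416796876800000 := by rw [← hp]; ring
    omega
  have hd : 98256 - f c = f d := by omega
  have hall : ∀ x : Fin 3, x = i ∨ x = c ∨ x = d := by
    intro x
    have : x ∈ (Finset.univ : Finset (Fin 3)) := Finset.mem_univ x
    rw [huniv] at this
    simpa using this
  have hc24 : f c ≠ 24 := by
    intro h
    have h1 := hdiv d
    rw [show f d = 98232 by omega] at h1
    exact not98232 h1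
  have hd24 : f d ≠ 24 := by
    intro h
    have h1 := hdiv c
    rw [show f c = 98232 by omega] at h1
    exact not98232 h1
  have hne : f c ≠ f d := by
    intro h
    have h1 := hdiv c
    rw [show f c = 49128 by omega] at h1
    exact not49128 h1
  have hinj : Function.Injective f := by
    intro x y hxy
    rcases hall x with rfl | rfl | rfl <;> rcases hall y with rfl | rfl | rfl <;>
      first
        | rfl
        | (exfalso; omega)
  obtain ⟨e, he⟩ := hsq hinj
  have hpos : 0 < f c * f d := by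
    apply Nat.pos_of_ne_zero
    intro h0
    rw [h0, zero_mul] at hp'
    omega
  have hQ : 8570374934033203200000 / (f c * f d) = e * e := by
    rw [← hp', he, Nat.mul_div_cancel_left _ hpos]
  have h1 := List.all_eq_true.1 chk_all (f c) (mem_fac (hdiv c))
  unfold chk at h1
  rw [hd] at h1
  simp only [Bool.or_eq_true] at h1
  rcases h1 with h1 | h1 | h1 | h1 | h1 | h1 | h1 | h1 | h1
  · rw [Nat.blt_eq] at h1
    omega
  · exact absurd (hdiv d) (mod_ne h1)
  · exact absurd (Nat.eq_of_beq_eq_true h1) hne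
  · exact absurd (Nat.eq_of_beq_eq_true h1) hc24
  · exact absurd (Nat.eq_of_beq_eq_true h1) hd24
  · exact absurd (Dvd.intro _ hp') (mod_ne h1)
  · rw [hQ] at h1
    exact absurd rfl (notSq_spec h1 e)
  · have h2 := Nat.eq_of_beq_eq_true h1
    exact ⟨⟨c, h2⟩, ⟨d, by omega⟩⟩
  · have h2 := Nat.eq_of_beq_eq_true h1
    exact ⟨⟨d, by omega⟩, ⟨c, h2⟩⟩

/-- the conclusion, from the signed Frame theorem -/
theorem degrees [Fintype Co0] (χ : Fin 3 → IrrCharacter Co0) (D : ℕ)
    (hodd : ∀ i, (χ i : Co0 → ℂ) z = -(χ i : Co0 → ℂ) 1)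
    (hmem : ∀ ψ : IrrCharacter Co0, (ψ : Co0 → ℂ) z = -(ψ : Co0 → ℂ) 1 →
      classInner (perm Co0 M) (ψ : Co0 → ℂ) ≠ 0 → ∃ i, χ i = ψ)
    (hsum : 2 * ∑ i, charDegree (χ i : Co0 → ℂ) = Nat.card M)
    (hprod : 8 * ((∏ i, charDegree (χ i : Co0 → ℂ)) * D) = ∏ i, (Nat.card M * (![1, 4600, 47104] : Fin 3 → ℕ) i))
    (hsq : Function.Injective (fun i => charDegree (χ i : Co0 → ℂ)) → IsSquare D) :
    (∃ ψ : Co0 → ℂ, IsIrrCharacter Co0 ψ ∧ ψ (signCo0 allOne) = -ψ 1 ∧ charDegree ψ = 2576) ∧
      ∃ ψ : Co0 → ℂ, IsIrrCharacter Co0 ψ ∧ ψ (signCo0 allOne) = -ψ 1 ∧ charDegree ψ = 95680 := by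
  have hchi : chi (signCo0 allOne) = -chi 1 := by rw [chi_neg, chi_one]
  obtain ⟨i, hi⟩ := hmem ⟨chi, irr_chi⟩ hchi inner_chi_ne
  have hi24 : charDegree (χ i : Co0 → ℂ) = 24 := by
    rw [hi]
    show ⌊(chi 1).re⌋₊ = 24
    rw [chi_one]
    norm_num
  obtain ⟨⟨c, hc⟩, ⟨d, hd⟩⟩ := dioph (fun i => charDegree (χ i : Co0 → ℂ)) D
    (fun i => by rw [← Cfsg.Agent.S1582.card_co0]; exact Cfsg.Agent.Blocks.Knorr.charDegree_dvd (χ i).2) hi24
    (by rw [hsum, card_M]) (by rw [hprod, card_M]; decide +kernel) hsq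
  exact ⟨⟨χ c, (χ c).2, hodd c, hc⟩, ⟨χ d, (χ d).2, hodd d, hd⟩⟩

end Cfsg.Agent.H764.RIM.Deg
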